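import Cfsg.Agent.Solvable.Thompson
import Cfsg.Agent.Lib.Coprime.Commutator
import Cfsg.Agent.Lib.Cores.Fitting
import Cfsg.Agent.Lib.CN.Basic
import Cfsg.Agent.Lib.SETwoClosed.Sylow

/-!
# Fixed point free elements of prime order and coprime pairs

An element of prime order fixing no element of `V` or of `B` makes a coprime pair `V`, `B` commute;
a group centralising the `l`-cores of a solvable group centralises it.
-/

set_option autoImplicit false
set_option linter.style.haveILetI false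

namespace Cfsg.Agent.SECoreTwoClosed

open Subgroup

universe u

variable {G : Type u} [Group G] [Finite G]

/-- If an element of prime order normalising `V` and `B` has no fixed points on either, then `B`
centralises `V`. -/
theorem le_centralizer_of_fpf_prime {V B : Subgroup G} (hBV : B ≤ normalizer (V : Set G))
    (hcop : (Nat.card ↥V).Coprime (Nat.card ↥B)) {c : G} {p : ℕ} (hp : p.Prime) (hc : c ^ p = 1)
    (hcV : c ∈ normalizer (V : Set G)) (hcB : c ∈ normalizer (B : Set G))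
    (hV : ∀ v ∈ V, Commute c v → v = 1) (hB : ∀ b ∈ B, Commute c b → b = 1) :
    B ≤ centralizer (V : Set G) := by
  haveI := Fact.mk hp
  set K := V ⊔ B with hK
  have hmem : ∀ x ∈ K, ∃ v ∈ V, ∃ b ∈ B, v * b = x := fun x hx =>
    (Coprime.mem_sup_of_le_normalizer hBV).1 hx
  have hdis := Coprime.disjoint_of_coprime hcop
  by_cases hc1 : c = 1
  · intro b hb
    rw [hB b hb (hc1 ▸ Commute.one_left b)]
    exact one_mem _
  have hcK : c ∈ normalizer (K : Set G) := by
    refine SETwoClosed.mem_normalizer_of_le fun x hx => ?_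
    obtain ⟨v, hv, b, hb, rfl⟩ := hmem x hx
    rw [← conj_mul]
    exact mul_mem_sup ((mem_normalizer_iff.1 hcV v).1 hv) ((mem_normalizer_iff.1 hcB b).1 hb)
  let φ : MulAut ↥K := normalizerMonoidHom K ⟨c, hcK⟩
  have hφ : ∀ x : ↥K, ((φ x : ↥K) : G) = c * x * c⁻¹ := fun x => rfl
  have hfix : ∀ x : ↥K, φ x = x → x = 1 := by
    intro x hx
    obtain ⟨v, hv, b, hb, hvb⟩ := hmem x x.2
    have h1 : c * v * c⁻¹ * (c * b * c⁻¹) = v * b := by
      rw [conj_mul, hvb]; exact (hφ x).symm.trans (congrArg Subtype.val hx)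
    have h2 := mul_injective_of_disjoint hdis
      (a₁ := (⟨_, (mem_normalizer_iff.1 hcV v).1 hv⟩, ⟨_, (mem_normalizer_iff.1 hcB b).1 hb⟩))
      (a₂ := (⟨v, hv⟩, ⟨b, hb⟩)) h1
    simp only [Prod.mk.injEq, Subtype.mk.injEq] at h2
    refine Subtype.ext ?_
    rw [← hvb, hV v hv (mul_inv_eq_iff_eq_mul.1 h2.1), hB b hb (mul_inv_eq_iff_eq_mul.1 h2.2),
      mul_one, OneMemClass.coe_one]
  by_cases hφ1 : φ = 1
  · intro b hb
    rw [show b = 1 from congrArg Subtype.val (hfix ⟨b, mem_sup_right hb⟩ (by rw [hφ1]; rfl))]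
    exact one_mem _
  have hord : orderOf φ = p := by
    refine orderOf_eq_prime ?_ hφ1
    show normalizerMonoidHom K ⟨c, hcK⟩ ^ p = 1
    rw [← map_pow, show (⟨c, hcK⟩ : ↥(normalizer (K : Set G))) ^ p = 1 from Subtype.ext (by
      rw [SubgroupClass.coe_pow, OneMemClass.coe_one]; exact hc), map_one]
  haveI hnil : Group.IsNilpotent ↥K := Solvable.Thompson.isNilpotent_of_fixedPointFree φ hp hfix (hord ▸ pow_orderOf_eq_one φ)
  -- coprime elements of a nilpotent group commute
  intro b hb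
  refine mem_centralizer_iff.2 fun v hv => ?_
  have hco : (orderOf (⟨v, mem_sup_left hv⟩ : ↥K)).Coprime (orderOf (⟨b, mem_sup_right hb⟩ : ↥K)) := by
    rw [Subgroup.orderOf_mk, Subgroup.orderOf_mk]
    refine (hcop.coprime_dvd_left ?_).coprime_dvd_right ?_
    · rw [← Subgroup.orderOf_mk v hv]; exact orderOf_dvd_natCard _
    · rw [← Subgroup.orderOf_mk b hb]; exact orderOf_dvd_natCard _
  exact congrArg Subtype.val (CN.commute_of_coprime_group _ _ hco).eq

/-- A coprime group centralising every `l`-core of a solvable group centralises it. -/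
theorem le_centralizer_of_pCores {W B : Subgroup G} (hBW : B ≤ normalizer (W : Set G))
    (hcop : (Nat.card ↥B).Coprime (Nat.card ↥W)) (hW : Group.IsSolvable ↥W)
    (h : ∀ l : ℕ, l.Prime → B ≤ centralizer (((Cfsg.pCore l ↥W).map W.subtype : Subgroup G) : Set G)) :
    B ≤ centralizer (W : Set G) := by
  haveI := hW
  set F := (Cfsg.fittingSubgroup ↥W).map W.subtype with hF
  have hFW : F ≤ W := map_subtype_le _
  have hBF : B ≤ centralizer (F : Set G) := by
    rw [le_centralizer_iff, hF, Cores.fittingSubgroup_eq_iSup, Subgroup.map_iSup]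
    exact iSup_le fun l => le_centralizer_iff.1 (h l (Nat.prime_of_mem_primeFactors l.2))
  have hWF : ∀ {w : G}, w ∈ W → ∀ {f : G}, f ∈ F → w * f * w⁻¹ ∈ F := by
    rintro w hw _ ⟨f, hf, rfl⟩
    exact ⟨_, (inferInstance : (Cfsg.fittingSubgroup ↥W).Normal).conj_mem f hf ⟨w, hw⟩, rfl⟩
  refine Coprime.le_centralizer_of_series hBW hcop (Or.inr hW) hBF ?_
  rw [commutator_le]
  intro w hw b hb
  have hwb : w * b * w⁻¹ * b⁻¹ ∈ W := by
    rw [show w * b * w⁻¹ * b⁻¹ = w * (b * w⁻¹ * b⁻¹) by group]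
    exact mul_mem hw ((mem_normalizer_iff.1 (hBW hb) _).1 (inv_mem hw))
  have hcF : (⟨_, hwb⟩ : ↥W) ∈ centralizer (Cfsg.fittingSubgroup ↥W : Set ↥W) := by
    refine mem_centralizer_iff.2 fun f hf => Subtype.ext ?_
    show (f : G) * (w * b * w⁻¹ * b⁻¹) = w * b * w⁻¹ * b⁻¹ * f
    have hfF : (f : G) ∈ F := ⟨f, hf, rfl⟩
    have hcb : ∀ g ∈ F, g * b = b * g := fun g hg => mem_centralizer_iff.1 (hBF hb) g hg
    have hg : w⁻¹ * f * w ∈ F := by simpa using hWF (inv_mem hw) hfF
    calc (f : G) * (w * b * w⁻¹ * b⁻¹) = w * ((w⁻¹ * f * w) * b) * w⁻¹ * b⁻¹ := by group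
      _ = w * (b * (w⁻¹ * f * w)) * w⁻¹ * b⁻¹ := by rw [hcb _ hg]
      _ = w * b * w⁻¹ * (f * b⁻¹) := by group
      _ = w * b * w⁻¹ * b⁻¹ * f := by
          rw [show (f : G) * b⁻¹ = b⁻¹ * f by
            rw [eq_inv_mul_iff_mul_eq, ← mul_assoc, ← hcb _ hfF, mul_inv_cancel_right]]
          group
  exact ⟨_, Cores.centralizer_fittingSubgroup_le hcF, by simp [commutatorElement_def]⟩

end Cfsg.Agent.SECoreTwoClosed
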