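import Mathlib
import Cfsg.Prelude.Def_Involutions
import Cfsg.Prelude.Def_CaseTheorems
import Cfsg.Prelude.Def_Local

/-!
# The core lemma for strongly embedded subgroups that are 2-closed modulo their core

`notes/s1221-2closed-h29.md`, and the shape of a Sylow 2-subgroup of type `U₃(2^n)`.
-/

set_option autoImplicit false

namespace Cfsg.Agent.SECoreTwoClosed

open Subgroup

universe u

/-- The hypothesis of the core lemma. -/
structure Hyp {G : Type u} [Group G] (H W : Subgroup G) : Prop where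
  se : Cfsg.IsStronglyEmbedded H
  le : W ≤ H
  normal : H ≤ normalizer (W : Set G)
  odd : Odd (Nat.card ↥W)
  closed : ∀ a ∈ H, ∀ b ∈ H, (∃ k : ℕ, a ^ (2 ^ k) ∈ W) → (∃ k : ℕ, b ^ (2 ^ k) ∈ W) →
    ∃ k : ℕ, (a * b) ^ (2 ^ k) ∈ W
  eight : ∃ A : Subgroup G, A ≤ H ∧ Cfsg.IsElementaryAbelian 2 A ∧ 8 ≤ Nat.card ↥A

/-- The core lemma: `W` lies in the odd core. -/
def CoreLemma : Prop :=
  ∀ (G : Type u) [Group G] [Finite G] (H W : Subgroup G), Hyp H W → W ≤ Cfsg.oddCore G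

/-- The centre of `S` in `G`. -/
def ctr {G : Type u} [Group G] (S : Subgroup G) : Subgroup G := (center ↥S).map S.subtype

/-- The properties used of a Sylow 2-subgroup of `PSU₃(2^n)`. -/
structure UType {G : Type u} [Group G] (S : Subgroup G) (n : ℕ) : Prop where
  three_le : 3 ≤ n
  two : IsPGroup 2 ↥S
  card : Nat.card ↥S = (2 ^ n) ^ 3
  card_ctr : Nat.card ↥(ctr S) = 2 ^ n
  exp : ∀ x ∈ ctr S, x * x = 1
  invol : ∀ x ∈ S, x * x = 1 → x ∈ ctr S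
  sq : ∀ x ∈ S, x * x ∈ ctr S
  full : ∀ x ∈ S, x ∉ ctr S → ∀ z ∈ ctr S, ∃ s ∈ S, s * x * s⁻¹ = x * z
  cent_comm : ∀ x ∈ S, x ∉ ctr S → ∀ y ∈ S, ∀ y' ∈ S, Commute x y → Commute x y' → Commute y y'
  two_squares : ∃ x ∈ S, ∃ y ∈ S, x * x ≠ 1 ∧ y * y ≠ 1 ∧ x * x ≠ y * y

end Cfsg.Agent.SECoreTwoClosed
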