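import Cfsg.Agent.Lib.Coprime.Generation
import Cfsg.Agent.Lib.SETwoClosed.Basic

/-!
# An automorphism fixing the involutions, next to one fixing none

`notes/s1221-2closed-h29.md`: two commuting `p`-elements act on a 2-group `S`; the first centralises the
involutions of `S`, the second none of them.  Then the first centralises `S`.
-/

set_option autoImplicit false
set_option linter.style.haveILetI false

namespace Cfsg.Agent.SECoreTwoClosed

open Subgroup

universe u

variable {G : Type u} [Group G] [Finite G]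

/-- An element fixing the involutions of a 2-group next to a commuting one fixing none centralises it. -/
theorem mem_centralizer_of_fpf {S : Subgroup G} (hS : IsPGroup 2 ↥S) {p : ℕ} (hp : p.Prime)
    (hp2 : p ≠ 2) {r c : G} (hr : r ^ p = 1) (hc : c ^ p = 1) (hrc : Commute r c)
    (hrS : r ∈ normalizer (S : Set G)) (hcS : c ∈ normalizer (S : Set G))
    (hfix : ∀ x ∈ S, x * x = 1 → Commute r x)
    (hfpf : ∀ x ∈ S, x * x = 1 → Commute c x → x = 1) : r ∈ centralizer (S : Set G) := by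
  haveI := Fact.mk hp
  -- an involution among the powers
  have hinv : ∀ x ∈ S, x ≠ 1 → ∃ k : ℕ, x ^ k ∈ S ∧ x ^ k * x ^ k = 1 ∧ x ^ k ≠ 1 := by
    intro x hx hx1
    obtain ⟨k, hk⟩ := hS ⟨x, hx⟩
    obtain ⟨i, hi⟩ := SETwoClosed.involution_of_twoEl (e := x) ⟨k, congrArg Subtype.val hk⟩ hx1
    exact ⟨i, pow_mem hx i, Involutions.Basic.inv_sq_one hi, Involutions.Basic.ne_one hi⟩
  by_contra hrC
  obtain ⟨x, hx, hrx⟩ : ∃ x ∈ S, ¬ Commute r x := by
    by_contra hall
    push Not at hall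
    exact hrC (mem_centralizer_iff.2 fun x hx => (hall x hx).symm.eq)
  have hx1 : x ≠ 1 := fun e => hrx (e ▸ Commute.one_right r)
  obtain ⟨k, hzS, hz2, hz1⟩ := hinv x hx hx1
  have hr1 : r ≠ 1 := fun e => hrx (e ▸ Commute.one_left x)
  -- no nontrivial power of `c` centralises the involution
  have hcj : ∀ {z : G}, z ∈ S → z * z = 1 → z ≠ 1 → ∀ j : ℕ, Commute (c ^ j) z → c ^ j = 1 := by
    intro z hzS hz2 hz1 j hj
    by_contra hne
    have hco : p.Coprime j := hp.coprime_iff_not_dvd.2 fun hd => by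
      obtain ⟨m, rfl⟩ := hd
      exact hne (by rw [pow_mul, hc, one_pow])
    obtain ⟨m, hm⟩ := exists_pow_eq_self_of_coprime
      (hco.symm.coprime_dvd_right (orderOf_dvd_of_pow_eq_one hc))
    exact hz1 (hfpf z hzS hz2 (hm ▸ hj.pow_left m))
  have hrnot : ∀ j : ℕ, c ^ j ≠ r := fun j e => hr1 (e ▸ hcj hzS hz2 hz1 j (e ▸ hfix _ hzS hz2))
  -- the group generated by the two
  set A := zpowers r ⊔ zpowers c with hA
  have hcent : ∀ y : G, Commute c y → zpowers c ≤ normalizer (zpowers y : Set G) := fun y hy =>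
    zpowers_le.2 (mem_normalizer_iff.2 fun w => by
      refine ⟨fun hw => ?_, fun hw => ?_⟩
      · obtain ⟨i, rfl⟩ := mem_zpowers_iff.1 hw
        rw [(hy.zpow_right i).eq, mul_inv_cancel_right]; exact zpow_mem (mem_zpowers y) i
      · obtain ⟨i, hi⟩ := mem_zpowers_iff.1 hw
        have h1 : w = c⁻¹ * y ^ i * c := by rw [hi]; group
        rw [h1, ((hy.zpow_right i).inv_left).eq, inv_mul_cancel_right]
        exact zpow_mem (mem_zpowers y) i)
  have hmemA : ∀ a ∈ A, ∃ i j : ℕ, a = r ^ i * c ^ j := by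
    intro a ha
    obtain ⟨a1, ha1, a2, ha2, rfl⟩ := (Coprime.mem_sup_of_le_normalizer (hcent r hrc.symm)).1 ha
    obtain ⟨i, rfl⟩ := Submonoid.mem_powers_iff _ _ |>.1 (mem_powers_iff_mem_zpowers.2 ha1)
    obtain ⟨j, rfl⟩ := Submonoid.mem_powers_iff _ _ |>.1 (mem_powers_iff_mem_zpowers.2 ha2)
    exact ⟨i, j, rfl⟩
  haveI : IsMulCommutative ↥A := by
    refine ⟨⟨fun a b => Subtype.ext ?_⟩⟩
    obtain ⟨i, j, ha⟩ := hmemA a a.2
    obtain ⟨i', j', hb⟩ := hmemA b b.2
    show (a : G) * b = b * a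
    rw [ha, hb]
    exact (((Commute.pow_pow_self r i i').mul_right (hrc.pow_pow i j')).mul_left
      ((hrc.symm.pow_pow j i').mul_right (Commute.pow_pow_self c j j'))).eq
  have hexp : ∀ a ∈ A, a ^ p = 1 := by
    intro a ha
    obtain ⟨i, j, rfl⟩ := hmemA a ha
    rw [(hrc.pow_pow i j).mul_pow, ← pow_mul, ← pow_mul, mul_comm i, mul_comm j, pow_mul, pow_mul,
      hr, hc, one_pow, one_pow, one_mul]
  have hcyc : ¬ IsCyclic ↥A := by
    intro hcy
    have hcA : Nat.card ↥A ∣ p := by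
      obtain ⟨g, hg⟩ := IsCyclic.exists_generator (α := ↥A)
      rw [← orderOf_eq_card_of_forall_mem_zpowers hg]
      exact orderOf_dvd_of_pow_eq_one (Subtype.ext (by
        rw [SubgroupClass.coe_pow, OneMemClass.coe_one]; exact hexp g g.2))
    have hle : zpowers c ≤ A := le_sup_right
    rcases hp.eq_one_or_self_of_dvd _ hcA with e | e
    · exact hr1 (mem_bot.1 (card_eq_one.1 e ▸ mem_sup_left (mem_zpowers r) : r ∈ (⊥ : Subgroup G)))
    · have hc1 : c ≠ 1 := fun e1 => hz1 (hfpf _ hzS hz2 (e1 ▸ Commute.one_left _))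
      have heq : zpowers c = A := eq_of_le_of_card_ge hle
        (by rw [e, Nat.card_zpowers, orderOf_eq_prime hc hc1])
      obtain ⟨j, hj⟩ := Submonoid.mem_powers_iff _ _ |>.1
        (mem_powers_iff_mem_zpowers.2 (heq ▸ mem_sup_left (mem_zpowers r) : r ∈ zpowers c))
      exact hrnot j hj
  have hAS : A ≤ normalizer (S : Set G) := sup_le (zpowers_le.2 hrS) (zpowers_le.2 hcS)
  have hcop : (Nat.card ↥A).Coprime (Nat.card ↥S) := by
    obtain ⟨m, hm⟩ := IsPGroup.iff_card.1 hS
    obtain ⟨l, hl⟩ := IsPGroup.iff_card.1 (show IsPGroup p ↥A from fun a => ⟨1, Subtype.ext (by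
      rw [pow_one, SubgroupClass.coe_pow, OneMemClass.coe_one]; exact hexp a a.2)⟩)
    rw [hm, hl]
    exact ((Nat.coprime_primes hp Nat.prime_two).2 hp2).pow l m
  refine hrC (mem_centralizer_iff.2 fun y hy => ?_)
  have hle : Coprime.fixedGen A S ≤ centralizer ({r} : Set G) := by
    refine iSup₂_le fun a ha y hy => mem_centralizer_singleton_iff.2 ?_
    obtain ⟨hyS, hya⟩ := mem_inf.1 hy
    obtain ⟨haA, ha1⟩ := ha
    have hcay : Commute a y := (mem_centralizer_singleton_iff.1 hya).symm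
    by_cases hy1 : y = 1
    · subst hy1; simp
    obtain ⟨k, hwS, hw2, hw1⟩ := hinv y hyS hy1
    obtain ⟨i, j, rfl⟩ := hmemA a haA
    have hjc : c ^ j = 1 := by
      refine hcj hwS hw2 hw1 j ?_
      rw [show c ^ j = (r ^ i)⁻¹ * (r ^ i * c ^ j) by group]
      exact ((hfix _ hwS hw2).pow_left i).inv_left.mul_left (hcay.pow_right k)
    rw [hjc, mul_one] at hcay ha1
    have hco : p.Coprime i := hp.coprime_iff_not_dvd.2 fun hd => by
      obtain ⟨m, rfl⟩ := hd
      exact ha1 (by rw [pow_mul, hr, one_pow])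
    obtain ⟨m, hm⟩ := exists_pow_eq_self_of_coprime
      (hco.symm.coprime_dvd_right (orderOf_dvd_of_pow_eq_one hr))
    exact (hm ▸ hcay.pow_left m).symm.eq
  exact mem_centralizer_singleton_iff.1 (hle ((Coprime.fixedGen_eq hcyc hAS hcop).symm ▸ hy))

end Cfsg.Agent.SECoreTwoClosed
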